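import Mathlib

/-! # Homology maps of chain complexes of modules, on elements -/

set_option autoImplicit false
universe v u

open CategoryTheory Limits

namespace Groth.Agent.CxHom

variable {R : Type u} [Ring R]

section sc

variable (S : ShortComplex (ModuleCat.{v} R))

theorem exists_cycle {x : S.X₂} (hx : S.g x = 0) : ∃ z : S.cycles, S.iCycles z = x := by
  have h : (ShortComplex.mk S.iCycles S.g S.iCycles_g).Exact :=
    ShortComplex.exact_of_f_is_kernel _ S.cyclesIsKernel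
  exact (ShortComplex.moduleCat_exact_iff _).1 h x hx

theorem g_iCycles (z : S.cycles) : S.g (S.iCycles z) = 0 := by
  rw [← ModuleCat.comp_apply, S.iCycles_g]; rfl

theorem iCycles_injective : Function.Injective S.iCycles := (ModuleCat.mono_iff_injective _).1 inferInstance

theorem homologyπ_surjective : Function.Surjective S.homologyπ := (ModuleCat.epi_iff_surjective _).1 inferInstance

theorem homologyπ_eq_zero_iff (z : S.cycles) :
    S.homologyπ z = 0 ↔ ∃ w : S.X₁, S.f w = S.iCycles z := by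
  have h : (ShortComplex.mk S.toCycles S.homologyπ S.toCycles_comp_homologyπ).Exact :=
    ShortComplex.exact_of_g_is_cokernel _ S.homologyIsCokernel
  constructor
  · intro hz
    obtain ⟨w, hw⟩ := (ShortComplex.moduleCat_exact_iff _).1 h z hz
    exact ⟨w, by rw [← hw, ← ModuleCat.comp_apply, S.toCycles_i]⟩
  · rintro ⟨w, hw⟩
    have : S.toCycles w = z := iCycles_injective S (by rw [← ModuleCat.comp_apply, S.toCycles_i, hw])
    rw [← this, ← ModuleCat.comp_apply, S.toCycles_comp_homologyπ]; rfl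

variable {S} {T : ShortComplex (ModuleCat.{v} R)} (φ : S ⟶ T)

theorem mono_homologyMap_iff : Mono (ShortComplex.homologyMap φ) ↔
    ∀ x : S.X₂, S.g x = 0 → (∃ y : T.X₁, T.f y = φ.τ₂ x) → ∃ w : S.X₁, S.f w = x := by
  rw [ModuleCat.mono_iff_injective, injective_iff_map_eq_zero]
  constructor
  · intro h x hx hy
    obtain ⟨z, rfl⟩ := exists_cycle S hx
    refine (homologyπ_eq_zero_iff S z).1 (h _ ?_)
    rw [← ModuleCat.comp_apply, ShortComplex.homologyπ_naturality, ModuleCat.comp_apply,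
      homologyπ_eq_zero_iff]
    obtain ⟨y, hy⟩ := hy
    exact ⟨y, by rw [hy, ← ModuleCat.comp_apply, ← ModuleCat.comp_apply, ShortComplex.cyclesMap_i]⟩
  · intro h q hq
    obtain ⟨z, rfl⟩ := homologyπ_surjective S q
    rw [← ModuleCat.comp_apply, ShortComplex.homologyπ_naturality, ModuleCat.comp_apply,
      homologyπ_eq_zero_iff] at hq
    obtain ⟨y, hy⟩ := hq
    refine (homologyπ_eq_zero_iff S z).2 (h _ (g_iCycles S z) ⟨y, ?_⟩)
    rw [hy, ← ModuleCat.comp_apply, ← ModuleCat.comp_apply, ShortComplex.cyclesMap_i]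

theorem epi_homologyMap_iff : Epi (ShortComplex.homologyMap φ) ↔
    ∀ y : T.X₂, T.g y = 0 → ∃ (x : S.X₂) (w : T.X₁), S.g x = 0 ∧ φ.τ₂ x + T.f w = y := by
  rw [ModuleCat.epi_iff_surjective]
  constructor
  · intro h y hy
    obtain ⟨z', rfl⟩ := exists_cycle T hy
    obtain ⟨q, hq⟩ := h (T.homologyπ z')
    obtain ⟨z, rfl⟩ := homologyπ_surjective S q
    rw [← ModuleCat.comp_apply, ShortComplex.homologyπ_naturality, ModuleCat.comp_apply,
      eq_comm, ← sub_eq_zero, ← map_sub, homologyπ_eq_zero_iff] at hq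
    obtain ⟨w, hw⟩ := hq
    refine ⟨S.iCycles z, w, g_iCycles S z, ?_⟩
    rw [hw, map_sub, ← ModuleCat.comp_apply (ShortComplex.cyclesMap φ), ShortComplex.cyclesMap_i, ModuleCat.comp_apply]
    abel
  · intro h q
    obtain ⟨z', rfl⟩ := homologyπ_surjective T q
    obtain ⟨x, w, hx, e⟩ := h _ (g_iCycles T z')
    obtain ⟨z, rfl⟩ := exists_cycle S hx
    refine ⟨S.homologyπ z, ?_⟩
    rw [← ModuleCat.comp_apply, ShortComplex.homologyπ_naturality, ModuleCat.comp_apply,
      eq_comm, ← sub_eq_zero, ← map_sub, homologyπ_eq_zero_iff]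
    refine ⟨w, ?_⟩
    rw [map_sub, ← ModuleCat.comp_apply (ShortComplex.cyclesMap φ), ShortComplex.cyclesMap_i, ModuleCat.comp_apply, ← e]
    abel

end sc

section cx

variable {C D : ChainComplex (ModuleCat.{v} R) ℕ} (f : C ⟶ D)

theorem next_zero : (ComplexShape.down ℕ).next 0 = 0 := by simp

theorem prev_eq (n : ℕ) : (ComplexShape.down ℕ).prev n = n + 1 := by simp

theorem mono_homologyMap_iff' (i j k : ℕ) (hi : (ComplexShape.down ℕ).prev j = i)
    (hk : (ComplexShape.down ℕ).next j = k) : Mono (HomologicalComplex.homologyMap f j) ↔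
    ∀ x : C.X j, C.d j k x = 0 → (∃ y, D.d i j y = f.f j x) → ∃ w, C.d i j w = x := by
  subst hi hk
  exact mono_homologyMap_iff _

theorem epi_homologyMap_iff' (i j k : ℕ) (hi : (ComplexShape.down ℕ).prev j = i)
    (hk : (ComplexShape.down ℕ).next j = k) : Epi (HomologicalComplex.homologyMap f j) ↔
    ∀ y : D.X j, D.d j k y = 0 → ∃ x w, C.d j k x = 0 ∧ f.f j x + D.d i j w = y := by
  subst hi hk
  exact epi_homologyMap_iff _

theorem mono_one : Mono (HomologicalComplex.homologyMap f 1) ↔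
    ∀ x : C.X 1, C.d 1 0 x = 0 → (∃ y, D.d 2 1 y = f.f 1 x) → ∃ w, C.d 2 1 w = x :=
  mono_homologyMap_iff' f 2 1 0 (prev_eq 1) (by simp)

theorem epi_one : Epi (HomologicalComplex.homologyMap f 1) ↔
    ∀ y : D.X 1, D.d 1 0 y = 0 → ∃ x w, C.d 1 0 x = 0 ∧ f.f 1 x + D.d 2 1 w = y :=
  epi_homologyMap_iff' f 2 1 0 (prev_eq 1) (by simp)

theorem mono_zero : Mono (HomologicalComplex.homologyMap f 0) ↔
    ∀ x : C.X 0, (∃ y, D.d 1 0 y = f.f 0 x) → ∃ w, C.d 1 0 w = x := by
  rw [mono_homologyMap_iff' f 1 0 0 (prev_eq 0) next_zero]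
  exact forall_congr' fun x ↦ ⟨fun h ↦ h (by rw [C.shape 0 0 (by simp)]; rfl), fun h _ ↦ h⟩

theorem epi_zero : Epi (HomologicalComplex.homologyMap f 0) ↔
    ∀ y : D.X 0, ∃ x w, f.f 0 x + D.d 1 0 w = y := by
  rw [epi_homologyMap_iff' f 1 0 0 (prev_eq 0) next_zero]
  refine forall_congr' fun y ↦ ⟨fun h ↦ ?_, fun ⟨x, w, h⟩ _ ↦ ⟨x, w, by rw [C.shape 0 0 (by simp)]; rfl, h⟩⟩
  obtain ⟨x, w, -, h⟩ := h (by rw [D.shape 0 0 (by simp)]; rfl)
  exact ⟨x, w, h⟩

end cx

end Groth.Agent.CxHom
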